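import Mathlib.RingTheory.AdicCompletion.RingHom
import Mathlib.RingTheory.AdicCompletion.Completeness
import Mathlib.RingTheory.AdicCompletion.LocalRing
import Mathlib.RingTheory.Localization.Away.Basic
import Mathlib.RingTheory.Regular.IsSMulRegular

/-! The p-adic dilatation algebra: the completion of the subalgebra of `A[1/p]` generated by the `aᵢ/p`. -/

set_option autoImplicit false
set_option linter.style.haveILetI false

universe u

open AdicCompletion (evalₐ evalₐ_mk eval eval_apply mk_surjective pow_smul_top_eq_ker_eval)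

namespace Groth.Agent.DilatLib

variable {R : Type u} [CommRing R] (r : R)

theorem isAdicComplete_completion :
    IsAdicComplete (Ideal.span {algebraMap R (AdicCompletion (Ideal.span {r}) R) r})
      (AdicCompletion (Ideal.span {r}) R) := by
  have hfg : (Ideal.span {r}).FG := Submodule.fg_span_singleton r
  have := (IsAdicComplete.map_algebraMap_iff (R := R) (S := AdicCompletion (Ideal.span {r}) R)
    (M := AdicCompletion (Ideal.span {r}) R) (Ideal.span {r})).mpr (AdicCompletion.isAdicComplete hfg)
  rwa [Ideal.map_span, Set.image_singleton] at this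

theorem eq_zero_of_mul (hr : IsSMulRegular R r) (x : AdicCompletion (Ideal.span {r}) R)
    (hx : algebraMap R (AdicCompletion (Ideal.span {r}) R) r * x = 0) : x = 0 := by
  refine AdicCompletion.ext_evalₐ fun n => ?_
  obtain ⟨y, hy⟩ := Ideal.Quotient.mk_surjective (evalₐ (Ideal.span {r}) (n + 1) x)
  have h1 : evalₐ (Ideal.span {r}) (n + 1) (algebraMap R _ r * x) = 0 := by rw [hx, map_zero]
  rw [map_mul, AlgHom.commutes, ← hy] at h1
  change Ideal.Quotient.mk _ r * Ideal.Quotient.mk _ y = 0 at h1
  rw [← map_mul, Ideal.Quotient.eq_zero_iff_mem, Ideal.span_singleton_pow, Ideal.mem_span_singleton'] at h1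
  obtain ⟨c, hc⟩ := h1
  have hyc : y = c * r ^ n := by
    refine hr ?_
    show r * y = r * (c * r ^ n)
    rw [← hc, pow_succ]; ring
  rw [map_zero]
  have h2 : Ideal.Quotient.factor (Ideal.pow_le_pow_right n.le_succ) (evalₐ (Ideal.span {r}) (n + 1) x) =
      evalₐ (Ideal.span {r}) n x := by
    obtain ⟨c', rfl⟩ := mk_surjective (Ideal.span {r}) R x
    rw [evalₐ_mk, evalₐ_mk, Ideal.Quotient.factor_mk, Ideal.Quotient.eq]
    have := c'.property n.le_succ
    rw [SModEq.sub_mem, smul_eq_mul, Ideal.mul_top] at this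
    rw [← neg_sub]
    exact neg_mem this
  rw [← h2, ← hy, Ideal.Quotient.factor_mk, Ideal.Quotient.eq_zero_iff_mem, Ideal.span_singleton_pow,
    Ideal.mem_span_singleton']
  exact ⟨c, hyc.symm⟩

theorem exists_decomp (x : AdicCompletion (Ideal.span {r}) R) (n : ℕ) :
    ∃ (s : R) (y : AdicCompletion (Ideal.span {r}) R),
      x = algebraMap R _ s + algebraMap R (AdicCompletion (Ideal.span {r}) R) r ^ n * y := by
  obtain ⟨s, hs⟩ := Submodule.Quotient.mk_surjective _ (x.val n)
  have hmem : x - algebraMap R (AdicCompletion (Ideal.span {r}) R) s ∈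
      (AdicCompletion.eval (Ideal.span {r}) R n).ker := by
    rw [LinearMap.mem_ker, map_sub, sub_eq_zero, eval_apply, eval_apply, ← hs]
    rfl
  rw [← pow_smul_top_eq_ker_eval (Submodule.fg_span_singleton r), Ideal.span_singleton_pow,
    Submodule.ideal_span_singleton_smul, Submodule.mem_smul_pointwise_iff_exists] at hmem
  obtain ⟨y, -, hy⟩ := hmem
  refine ⟨s, y, ?_⟩
  rw [← map_pow, ← Algebra.smul_def, hy, add_sub_cancel]

variable (p : ℕ) (A : Type u) [CommRing A]

/-- The dilatation algebra. -/
theorem exists_dilatation (hA : IsSMulRegular A (p : A)) {n : ℕ} (a : Fin n → A) :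
    ∃ (D : Type u) (_ : CommRing D) (_ : Algebra A D),
      IsAdicComplete (Ideal.span {(p : D)}) D ∧ IsSMulRegular D (p : D) ∧
      (∀ i, algebraMap A D (a i) ∈ Ideal.span {(p : D)}) ∧
      ∀ (B : Type u) [CommRing B] [Algebra A B] [IsAdicComplete (Ideal.span {(p : B)}) B],
        IsSMulRegular B (p : B) → (∀ i, algebraMap A B (a i) ∈ Ideal.span {(p : B)}) →
          Nonempty (D →ₐ[A] B) ∧ Subsingleton (D →ₐ[A] B) ∧
            (Function.Surjective (algebraMap A B) → ∀ f : D →ₐ[A] B, Function.Surjective f) := by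
  let L := Localization.Away (p : A)
  let g : Fin n → L := fun i => algebraMap A L (a i) * IsLocalization.Away.invSelf (p : A)
  have hpinv : algebraMap A L (p : A) * IsLocalization.Away.invSelf (p : A) = 1 :=
    IsLocalization.Away.mul_invSelf (p : A)
  let S : Subalgebra A L := Algebra.adjoin A (Set.range g)
  have hreg : ∀ x : S, (p : S) * x = 0 → x = 0 := by
    intro x hx
    apply Subtype.ext
    have h1 : algebraMap A L (p : A) * (x : L) = 0 := by
      have := congrArg Subtype.val hx
      simpa using this
    calc (x : L) = algebraMap A L (p : A) * IsLocalization.Away.invSelf (p : A) * (x : L) := by rw [hpinv, one_mul]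
      _ = IsLocalization.Away.invSelf (p : A) * (algebraMap A L (p : A) * (x : L)) := by ring
      _ = 0 := by rw [h1, mul_zero]
  have hregS : IsSMulRegular S (p : S) := by
    intro x y h
    exact sub_eq_zero.1 (hreg _ (by rw [mul_sub]; exact sub_eq_zero.2 h))
  let I : Ideal S := Ideal.span {(p : S)}
  let D := AdicCompletion I S
  have hp : algebraMap S D (p : S) = (p : D) := map_natCast _ _
  have hDc : IsAdicComplete (Ideal.span {(p : D)}) D := by
    rw [← hp]; exact isAdicComplete_completion (p : S)
  have hDr : IsSMulRegular D (p : D) := by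
    intro x y h
    refine sub_eq_zero.1 (eq_zero_of_mul (p : S) hregS _ ?_)
    show algebraMap S D (p : S) * (x - y) = 0
    rw [hp, mul_sub]; exact sub_eq_zero.2 h
  let gen : Fin n → S := fun i => ⟨g i, Algebra.subset_adjoin ⟨i, rfl⟩⟩
  have hgen : ∀ i, algebraMap A S (a i) = (p : S) * gen i := by
    intro i
    apply Subtype.ext
    show algebraMap A L (a i) = ((p : S) : L) * g i
    rw [show ((p : S) : L) = algebraMap A L (p : A) from by simp, mul_left_comm, hpinv, mul_one]
  refine ⟨D, inferInstance, inferInstance, hDc, hDr, fun i => ?_, fun B _ _ _ hB hBa => ?_⟩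
  · rw [IsScalarTower.algebraMap_apply A S D, hgen, map_mul, hp]
    exact Ideal.mem_span_singleton'.2 ⟨algebraMap S D (gen i), mul_comm _ _⟩
  -- uniqueness
  have huniq : ∀ f f' : D →ₐ[A] B, f = f' := by
    intro f f'
    have hS : (f.comp (IsScalarTower.toAlgHom A S D)) = f'.comp (IsScalarTower.toAlgHom A S D) := by
      refine AlgHom.adjoin_ext fun x hx => ?_
      obtain ⟨i, rfl⟩ := hx
      refine hB ?_
      have e := congrArg (fun t => (f.comp (IsScalarTower.toAlgHom A S D)) t) (hgen i)
      have e' := congrArg (fun t => (f'.comp (IsScalarTower.toAlgHom A S D)) t) (hgen i)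
      simp only [AlgHom.commutes, map_mul, map_natCast] at e e'
      exact e.symm.trans e'
    refine AlgHom.ext fun x => ?_
    refine sub_eq_zero.1 (IsHausdorff.haus (I := Ideal.span {(p : B)}) inferInstance _ fun m => ?_)
    obtain ⟨s, y, rfl⟩ := exists_decomp (p : S) x m
    rw [SModEq.zero, smul_eq_mul, Ideal.mul_top, Ideal.span_singleton_pow, Ideal.mem_span_singleton']
    refine ⟨f y - f' y, ?_⟩
    have hs : f (algebraMap S D s) = f' (algebraMap S D s) := AlgHom.congr_fun hS s
    rw [hp, map_add, map_add, map_mul, map_mul, map_pow, map_pow, map_natCast, map_natCast, hs]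
    ring
  refine ⟨?_, ⟨huniq⟩, fun hs f x => ?_⟩
  · let LB := Localization.Away (p : B)
    let ψ : L →ₐ[A] LB := IsLocalization.liftAlgHom (M := Submonoid.powers (p : A)) (f := Algebra.ofId A LB) (by
      rintro ⟨_, m, rfl⟩
      show IsUnit (algebraMap A LB ((p : A) ^ m))
      rw [map_pow, map_natCast, ← map_natCast (algebraMap B LB)]
      exact (IsLocalization.Away.algebraMap_isUnit (S := LB) (p : B)).pow m)
    have hinj : Function.Injective (algebraMap B LB) := by
      refine IsLocalization.injective LB (M := Submonoid.powers (p : B)) ?_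
      rintro _ ⟨m, rfl⟩
      refine pow_mem (mem_nonZeroDivisors_iff_right.2 fun x hx => hB ?_) m
      show (p : B) * x = (p : B) * 0
      rw [mul_zero, mul_comm, hx]
    have hle : S.map ψ ≤ (IsScalarTower.toAlgHom A B LB).range := by
      rw [AlgHom.map_adjoin, Algebra.adjoin_le_iff]
      rintro _ ⟨_, ⟨i, rfl⟩, rfl⟩
      obtain ⟨b, hb⟩ := Ideal.mem_span_singleton'.1 (hBa i)
      refine ⟨b, ?_⟩
      show algebraMap B LB b = ψ (g i)
      have hu : IsUnit (algebraMap B LB (p : B)) := IsLocalization.Away.algebraMap_isUnit (S := LB) (p : B)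
      refine hu.mul_left_cancel ?_
      calc algebraMap B LB (p : B) * algebraMap B LB b
          = algebraMap A LB (a i) := by
            rw [← map_mul, mul_comm, hb, ← IsScalarTower.algebraMap_apply]
        _ = ψ (algebraMap A L (p : A) * g i) := by
            rw [show algebraMap A L (p : A) * g i = algebraMap A L (a i) from by
              simp only [g]; rw [mul_left_comm, hpinv, mul_one], AlgHom.commutes]
        _ = algebraMap B LB (p : B) * ψ (g i) := by
            rw [map_mul, AlgHom.commutes, map_natCast, map_natCast]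
    let eB : B ≃ₐ[A] (IsScalarTower.toAlgHom A B LB).range := AlgEquiv.ofInjective _ hinj
    let φ : S →ₐ[A] B := eB.symm.toAlgHom.comp ((Subalgebra.inclusion hle).comp
      ((ψ.comp S.val).codRestrict (S.map ψ) fun x => Subalgebra.mem_map.2 ⟨x, x.2, rfl⟩))
    let J : Ideal B := Ideal.span {(p : B)}
    have hIJ : ∀ m, I ^ m ≤ (J ^ m).comap φ.toRingHom := fun m => by
      rw [Ideal.span_singleton_pow, Ideal.span_singleton_le_iff_mem, Ideal.mem_comap,
        Ideal.span_singleton_pow]
      exact Ideal.mem_span_singleton'.2 ⟨1, by simp⟩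
    let fam : (m : ℕ) → D →+* B ⧸ J ^ m := fun m =>
      (Ideal.quotientMap (J ^ m) φ.toRingHom (hIJ m)).comp (evalₐ I m).toRingHom
    have hfam : ∀ {m m' : ℕ} (hle : m ≤ m'), (Ideal.Quotient.factorPow J hle).comp (fam m') = fam m := by
      intro m m' hle'
      refine RingHom.ext fun x => ?_
      obtain ⟨c, rfl⟩ := mk_surjective I S x
      show Ideal.Quotient.factor (Ideal.pow_le_pow_right hle') (Ideal.quotientMap (J ^ m') φ.toRingHom (hIJ m')
        (evalₐ I m' (AdicCompletion.mk I S c))) = Ideal.quotientMap (J ^ m) φ.toRingHom (hIJ m) (evalₐ I m (AdicCompletion.mk I S c))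
      rw [evalₐ_mk, evalₐ_mk, Ideal.quotientMap_mk, Ideal.quotientMap_mk, Ideal.Quotient.factor_mk,
        Ideal.Quotient.eq, ← map_sub]
      refine hIJ m ?_
      have := c.property hle'
      rw [SModEq.sub_mem, smul_eq_mul, Ideal.mul_top] at this
      rw [← neg_sub]
      exact neg_mem this
    let F : D →+* B := IsAdicComplete.liftRingHom J fam hfam
    refine ⟨{ F with commutes' := fun x => ?_ }⟩
    refine sub_eq_zero.1 (IsHausdorff.haus (I := J) inferInstance _ fun m => ?_)
    rw [SModEq.zero, smul_eq_mul, Ideal.mul_top, ← Ideal.Quotient.eq_zero_iff_mem, map_sub, sub_eq_zero]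
    show Ideal.Quotient.mk (J ^ m) (F (algebraMap A D x)) = _
    rw [IsAdicComplete.mk_liftRingHom, IsScalarTower.algebraMap_apply A S D]
    show Ideal.quotientMap (J ^ m) φ.toRingHom (hIJ m) (evalₐ I m (algebraMap S D (algebraMap A S x))) = _
    rw [AlgHom.commutes]
    exact congrArg (Ideal.Quotient.mk (J ^ m)) (φ.commutes x)
  · obtain ⟨y, rfl⟩ := hs x
    exact ⟨algebraMap A D y, f.commutes y⟩

end Groth.Agent.DilatLib
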